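import Mathlib

set_option autoImplicit false

namespace Cfsg.Agent.Lead

/-- a multiset of naturals `≥ 2` with sum `≤ 1` is empty -/
theorem ms_eq_zero_of_sum_le_one (m : Multiset ℕ) (h2 : ∀ a ∈ m, 2 ≤ a) (hs : m.sum ≤ 1) :
    m = 0 := by
  by_contra hne
  obtain ⟨a, ha⟩ := Multiset.exists_mem_of_ne_zero hne
  have := Multiset.single_le_sum (fun x _ => Nat.zero_le x) a ha
  have := h2 a ha
  omega

/-- a multiset of naturals `≥ 2` with sum `≤ 3` is empty or a singleton -/
theorem ms_of_sum_le_three (m : Multiset ℕ) (h2 : ∀ a ∈ m, 2 ≤ a) (hs : m.sum ≤ 3) :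
    m = 0 ∨ m = {2} ∨ m = {3} := by
  by_cases hne : m = 0
  · exact Or.inl hne
  · obtain ⟨a, ha⟩ := Multiset.exists_mem_of_ne_zero hne
    obtain ⟨t, rfl⟩ := Multiset.exists_cons_of_mem ha
    have ha2 := h2 a (Multiset.mem_cons_self a t)
    rw [Multiset.sum_cons] at hs
    have ht : t = 0 := ms_eq_zero_of_sum_le_one t
      (fun b hb => h2 b (Multiset.mem_cons_of_mem hb)) (by omega)
    subst ht
    rw [Multiset.sum_zero] at hs
    have : a = 2 ∨ a = 3 := by omega
    rcases this with rfl | rfl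
    · exact Or.inr (Or.inl rfl)
    · exact Or.inr (Or.inr rfl)

/-- the lcm of a multiset of naturals `≥ 2` with sum `≤ 8` -/
theorem ms_lcm_mem (m : Multiset ℕ) (h2 : ∀ a ∈ m, 2 ≤ a) (hs : m.sum ≤ 8) :
    m.lcm ∈ ({1, 2, 3, 4, 5, 6, 7, 8, 10, 12, 15} : Set ℕ) := by
  by_cases h7 : ∃ a ∈ m, 7 ≤ a
  · obtain ⟨a, ha, ha7⟩ := h7
    obtain ⟨t, rfl⟩ := Multiset.exists_cons_of_mem ha
    rw [Multiset.sum_cons] at hs
    have ht : t = 0 := ms_eq_zero_of_sum_le_one t
      (fun b hb => h2 b (Multiset.mem_cons_of_mem hb)) (by omega)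
    subst ht
    rw [Multiset.sum_zero] at hs
    have : a = 7 ∨ a = 8 := by omega
    rcases this with rfl | rfl <;> simp
  push Not at h7
  by_cases h5 : 5 ∈ m
  · obtain ⟨t, rfl⟩ := Multiset.exists_cons_of_mem h5
    rw [Multiset.sum_cons] at hs
    rcases ms_of_sum_le_three t (fun b hb => h2 b (Multiset.mem_cons_of_mem hb)) (by omega)
      with rfl | rfl | rfl
    · simp
    · have : (5 ::ₘ ({2} : Multiset ℕ)).lcm = 10 := by decide
      rw [this]; simp
    · have : (5 ::ₘ ({3} : Multiset ℕ)).lcm = 15 := by decide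
      rw [this]; simp
  by_cases h6 : 6 ∈ m
  · obtain ⟨t, rfl⟩ := Multiset.exists_cons_of_mem h6
    rw [Multiset.sum_cons] at hs
    rcases ms_of_sum_le_three t (fun b hb => h2 b (Multiset.mem_cons_of_mem hb)) (by omega)
      with rfl | rfl | rfl
    · simp
    · have : (6 ::ₘ ({2} : Multiset ℕ)).lcm = 6 := by decide
      rw [this]; simp
    · simp at hs
  -- all parts in {2,3,4}
  have hdvd : m.lcm ∣ 12 := by
    apply Multiset.lcm_dvd.mpr
    intro a ha
    have h1 := h2 a ha
    have h3 := h7 a ha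
    have : a = 2 ∨ a = 3 ∨ a = 4 := by
      rcases Nat.lt_or_ge a 5 with h | h
      · omega
      · exfalso
        have : a = 5 ∨ a = 6 := by omega
        rcases this with rfl | rfl
        · exact h5 ha
        · exact h6 ha
    rcases this with rfl | rfl | rfl <;> decide
  have hle : m.lcm ≤ 12 := Nat.le_of_dvd (by norm_num) hdvd
  have hpos : m.lcm ≠ 0 := by
    intro h0; rw [h0] at hdvd; simp at hdvd
  generalize m.lcm = k at hdvd hle hpos
  interval_cases k <;> simp_all

set_option maxRecDepth 100000 in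
theorem spec_S8 : Set.range (orderOf : Equiv.Perm (Fin 8) → ℕ) =
    ({1, 2, 3, 4, 5, 6, 7, 8, 10, 12, 15} : Set ℕ) := by
  apply Set.Subset.antisymm
  · rintro _ ⟨σ, rfl⟩
    rw [← Equiv.Perm.lcm_cycleType]
    apply ms_lcm_mem
    · intro a ha
      exact Equiv.Perm.two_le_of_mem_cycleType ha
    · rw [Equiv.Perm.sum_cycleType]
      exact (Finset.card_le_univ _).trans (by simp)
  · intro k hk
    simp only [Set.mem_insert_iff, Set.mem_singleton_iff] at hk
    have key : ∀ (σ : Equiv.Perm (Fin 8)) (n : ℕ), 0 < n → σ ^ n = 1 →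
        (∀ m < n, 0 < m → σ ^ m ≠ 1) → n ∈ Set.range (orderOf : Equiv.Perm (Fin 8) → ℕ) :=
      fun σ n hn h1 h2 => ⟨σ, (orderOf_eq_iff hn).mpr ⟨h1, h2⟩⟩
    rcases hk with rfl | rfl | rfl | rfl | rfl | rfl | rfl | rfl | rfl | rfl | rfl
    · exact ⟨1, orderOf_one⟩
    · exact key (List.formPerm [0, 1]) 2 (by norm_num) (by decide) (by decide)
    · exact key (List.formPerm [0, 1, 2]) 3 (by norm_num) (by decide) (by decide)
    · exact key (List.formPerm [0, 1, 2, 3]) 4 (by norm_num) (by decide) (by decide)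
    · exact key (List.formPerm [0, 1, 2, 3, 4]) 5 (by norm_num) (by decide) (by decide)
    · exact key (List.formPerm [0, 1, 2, 3, 4, 5]) 6 (by norm_num) (by decide) (by decide)
    · exact key (List.formPerm [0, 1, 2, 3, 4, 5, 6]) 7 (by norm_num) (by decide) (by decide)
    · exact key (List.formPerm [0, 1, 2, 3, 4, 5, 6, 7]) 8 (by norm_num) (by decide) (by decide)
    · exact key (List.formPerm [0, 1, 2, 3, 4] * List.formPerm [5, 6]) 10 (by norm_num)
        (by decide) (by decide)
    · exact key (List.formPerm [0, 1, 2, 3] * List.formPerm [4, 5, 6]) 12 (by norm_num)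
        (by decide) (by decide)
    · exact key (List.formPerm [0, 1, 2, 3, 4] * List.formPerm [5, 6, 7]) 15 (by norm_num)
        (by decide) (by decide)

end Cfsg.Agent.Lead
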